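import Mathlib

/-!
# helper1: finite subgroup schemes of `𝔾_a`, Hopf-algebra form

`A` a commutative Hopf algebra over a field `K` with a primitive element `x` such that `A` is the
polynomial ring on `x` (expressed by the universal property `hU`).  Every Hopf ideal `I` with
`A ⧸ I` finite-dimensional is generated by an additive polynomial `f = p(x)`, and `x ↦ f` is an
injective bialgebra endomorphism `ψ` of `A` with `I = ψ(ker ε) A`.
-/

set_option autoImplicit false
universe u

open Polynomial TensorProduct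

namespace Groth.Agent.H1.GaGm

section Poly

theorem hasseDeriv_map' {R S : Type*} [CommSemiring R] [CommSemiring S] (φ : R →+* S) (k : ℕ)
    (f : R[X]) : hasseDeriv k (f.map φ) = (hasseDeriv k f).map φ := by
  ext n
  simp [hasseDeriv_coeff]

variable {K : Type u} [Field K]

/-- additivity of a polynomial whose higher Hasse derivatives are constant -/
theorem aeval_add_of_hasse {R' : Type*} [CommRing R'] [Algebra K R'] (p : K[X])
    (h0 : p.coeff 0 = 0) (hj : ∀ j, 1 ≤ j → hasseDeriv j p = C (p.coeff j)) (a b : R') :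
    aeval (a + b) p = aeval a p + aeval b p := by
  have e1 : aeval (a + b) p = (taylor b (p.map (algebraMap K R'))).eval a := by
    rw [taylor_eval, aeval_def, eval₂_eq_eval_map]
  have hc : ∀ j, (taylor b (p.map (algebraMap K R'))).coeff j =
      if j = 0 then aeval b p else algebraMap K R' (p.coeff j) := by
    intro j
    rw [taylor_coeff, hasseDeriv_map']
    split_ifs with h
    · subst h
      rw [hasseDeriv_zero', aeval_def, eval₂_eq_eval_map]
    · rw [hj j (Nat.one_le_iff_ne_zero.mpr h), Polynomial.map_C, eval_C]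
  have e2 : aeval a p = ∑ j ∈ Finset.range ((p.map (algebraMap K R')).natDegree + 1),
      algebraMap K R' (p.coeff j) * a ^ j := by
    rw [aeval_def, eval₂_eq_eval_map, eval_eq_sum_range]
    simp [coeff_map]
  rw [e1, eval_eq_sum_range, natDegree_taylor, e2]
  simp_rw [hc]
  rw [Finset.sum_range_succ', Finset.sum_range_succ' (fun j => algebraMap K R' (p.coeff j) * a ^ j)]
  simp [h0]

/-- the higher Hasse derivatives of `p` are constant if `p(Y) ∣ p(c + Y)` over `K[c]`. -/
theorem hasse_const_of_dvd (p : K[X]) (hp : p.Monic) (hn : 0 < p.natDegree)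
    {C' : Type*} [CommRing C'] [Algebra K C'] [Nontrivial C'] (c : C')
    (hmin : ∀ q : K[X], aeval c q = 0 → p ∣ q)
    (hdvd : p.map (algebraMap K C') ∣ taylor c (p.map (algebraMap K C'))) :
    p.coeff 0 = 0 ∧ ∀ j, 1 ≤ j → hasseDeriv j p = C (p.coeff j) := by
  have hpC : (p.map (algebraMap K C')).Monic := hp.map _
  have htm : (taylor c (p.map (algebraMap K C'))).Monic :=
    (leadingCoeff_taylor ..).trans hpC
  have heq : taylor c (p.map (algebraMap K C')) = p.map (algebraMap K C') :=
    eq_of_monic_of_dvd_of_natDegree_le hpC htm hdvd (by rw [natDegree_taylor])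
  have key : ∀ j, p ∣ hasseDeriv j p - C (p.coeff j) := by
    intro j
    apply hmin
    have h1 := congrArg (fun q => q.coeff j) heq
    simp only [taylor_coeff, hasseDeriv_map', coeff_map] at h1
    rw [map_sub, aeval_C, aeval_def, eval₂_eq_eval_map, h1, sub_self]
  constructor
  · have h := key 0
    rw [hasseDeriv_zero'] at h
    have h2 : p ∣ C (p.coeff 0) := by
      have := dvd_sub (dvd_refl p) h
      simpa using this
    have h3 := eq_zero_of_dvd_of_natDegree_lt h2 (by rw [natDegree_C]; exact hn)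
    exact C_eq_zero.mp h3
  · intro j hj
    have h3 := eq_zero_of_dvd_of_natDegree_lt (key j) (by
      refine lt_of_le_of_lt (natDegree_sub_le _ _) ?_
      rw [natDegree_C, max_eq_left (Nat.zero_le _)]
      exact lt_of_le_of_lt (natDegree_hasseDeriv_le p j) (by omega))
    exact sub_eq_zero.mp h3

end Poly

section Ga

variable {K : Type u} [Field K] {A : Type u} [CommRing A] [HopfAlgebra K A]

theorem ga_aeval_bijective (x : A)
    (hU : ∀ (R : Type u) [CommRing R] [Algebra K R] (r : R), ∃! f : A →ₐ[K] R, f x = r) :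
    Function.Bijective (aeval (R := K) x) := by
  obtain ⟨g, hg, -⟩ := hU K[X] X
  have h1 : (aeval x).comp g = AlgHom.id K A := by
    obtain ⟨f, -, hf⟩ := hU A x
    rw [hf ((aeval x).comp g) (by simp [hg]), hf (AlgHom.id K A) rfl]
  have h2 : g.comp (aeval x) = AlgHom.id K K[X] := by
    apply Polynomial.algHom_ext
    simp [hg]
  refine Function.bijective_iff_has_inverse.mpr ⟨g, fun q => ?_, fun a => ?_⟩
  · exact DFunLike.congr_fun h2 q
  · exact DFunLike.congr_fun h1 a

theorem ga_hext (x : A)
    (hU : ∀ (R : Type u) [CommRing R] [Algebra K R] (r : R), ∃! f : A →ₐ[K] R, f x = r)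
    {R : Type u} [CommRing R] [Algebra K R] (f g : A →ₐ[K] R) (h : f x = g x) : f = g :=
  (hU R (g x)).unique h rfl

theorem ga_counit_eq_zero (x : A)
    (hΔ : CoalgebraStruct.comul (R := K) x = x ⊗ₜ[K] 1 + 1 ⊗ₜ[K] x) :
    CoalgebraStruct.counit (R := K) x = 0 := by
  have h := Coalgebra.rTensor_counit_comul (R := K) x
  rw [hΔ, map_add, LinearMap.rTensor_tmul, LinearMap.rTensor_tmul, Bialgebra.counit_one] at h
  have h2 : CoalgebraStruct.counit (R := K) x ⊗ₜ[K] (1 : A) = 0 := by
    have := sub_eq_zero.mpr h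
    simpa using this
  have h3 := congrArg (TensorProduct.lid K A) h2
  rw [TensorProduct.lid_tmul, map_zero] at h3
  have hA : Nontrivial A := by
    by_contra hA
    rw [not_nontrivial_iff_subsingleton] at hA
    have : (1 : K) = 0 := by
      rw [← Bialgebra.counit_one (R := K) (A := A), Subsingleton.elim (1 : A) 0, map_zero]
    exact one_ne_zero this
  by_contra hne
  have : (1 : A) = 0 := by
    have := congrArg (fun a => (CoalgebraStruct.counit (R := K) x)⁻¹ • a) h3
    simpa [smul_smul, inv_mul_cancel₀ hne] using this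
  exact one_ne_zero this

/-- Finite subgroup schemes of `𝔾_a`: the Hopf ideal is generated by an additive polynomial. -/
theorem ga_main (x : A)
    (hU : ∀ (R : Type u) [CommRing R] [Algebra K R] (r : R), ∃! f : A →ₐ[K] R, f x = r)
    (hΔ : CoalgebraStruct.comul (R := K) x = x ⊗ₜ[K] 1 + 1 ⊗ₜ[K] x)
    (I : Ideal A) [I.IsHopfIdeal K] [Module.Finite K (A ⧸ I)] :
    ∃ ψ : A →ₐc[K] A, Function.Injective ψ ∧
      I = Ideal.map (ψ : A →+* A) (RingHom.ker (Bialgebra.counitAlgHom K A)) := by
  classical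
  have hbij := ga_aeval_bijective x hU
  have hε : CoalgebraStruct.counit (R := K) x = 0 := ga_counit_eq_zero x hΔ
  have hI1 : (1 : A) ∉ I := fun h => by
    have := Submodule.IsCoideal.counit_eq_zero (I := I.restrictScalars K) h
    rw [Bialgebra.counit_one] at this
    exact one_ne_zero this
  haveI : Nontrivial (A ⧸ I) :=
    Ideal.Quotient.nontrivial_iff.mpr (by rwa [Ne, Ideal.eq_top_iff_one])
  let π : A →ₐ[K] A ⧸ I := Ideal.Quotient.mkₐ K I
  let c : A ⧸ I := π x
  have hc : IsIntegral K c := Algebra.IsIntegral.isIntegral c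
  let p := minpoly K c
  have hp : p.Monic := minpoly.monic hc
  have hn : 0 < p.natDegree := minpoly.natDegree_pos hc
  let f : A := aeval x p
  have hfI : f ∈ I := by
    rw [← Ideal.Quotient.eq_zero_iff_mem]
    show π (aeval x p) = 0
    rw [← aeval_algHom_apply]
    exact minpoly.aeval K c
  have hIf : I = Ideal.span {f} := by
    apply le_antisymm
    · intro a ha
      obtain ⟨q, rfl⟩ := hbij.2 a
      have h : aeval c q = 0 := by
        rw [show c = π x from rfl, aeval_algHom_apply]
        exact Ideal.Quotient.eq_zero_iff_mem.mpr ha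
      obtain ⟨r, rfl⟩ := minpoly.dvd K c h
      rw [map_mul]
      exact Ideal.mul_mem_right _ _ (Ideal.subset_span rfl)
    · rw [Ideal.span_le]
      intro a ha
      rw [Set.mem_singleton_iff.mp ha]
      exact hfI
  have hΔf : CoalgebraStruct.comul (R := K) f = aeval (x ⊗ₜ[K] 1 + 1 ⊗ₜ[K] x) p := by
    rw [← hΔ]
    exact (aeval_algHom_apply (Bialgebra.comulAlgHom K A) x p).symm
  have hadd : p.coeff 0 = 0 ∧ ∀ j, 1 ≤ j → hasseDeriv j p = C (p.coeff j) := by
    apply hasse_const_of_dvd p hp hn c (fun q hq => minpoly.dvd K c hq)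
    set pC := p.map (algebraMap K (A ⧸ I)) with hpC
    obtain ⟨g₀, hg₀, -⟩ := hU (AdjoinRoot pC) (AdjoinRoot.root pC)
    have e3 : algebraMap K (AdjoinRoot pC) = (AdjoinRoot.of pC).comp (algebraMap K (A ⧸ I)) := by
      rw [← AdjoinRoot.algebraMap_eq]
      exact IsScalarTower.algebraMap_eq K (A ⧸ I) (AdjoinRoot pC)
    have hroot : aeval (AdjoinRoot.root pC) p = 0 := by
      rw [aeval_def, e3, ← eval₂_map]
      exact AdjoinRoot.eval₂_root _
    have hg₀I : ∀ a ∈ I, g₀ a = 0 := by
      intro a ha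
      rw [hIf, Ideal.mem_span_singleton] at ha
      obtain ⟨b, rfl⟩ := ha
      rw [map_mul, show g₀ f = aeval (g₀ x) p from (aeval_algHom_apply g₀ x p).symm, hg₀, hroot,
        zero_mul]
    let g : A ⧸ I →ₐ[K] AdjoinRoot pC := Ideal.Quotient.liftₐ I g₀ hg₀I
    have hg : g c = AdjoinRoot.root pC := hg₀
    let Φ : (A ⧸ I) ⊗[K] (A ⧸ I) →ₐ[K] AdjoinRoot pC :=
      Algebra.TensorProduct.lift (IsScalarTower.toAlgHom K (A ⧸ I) (AdjoinRoot pC)) g
        (fun _ _ => Commute.all _ _)
    have h0 : Algebra.TensorProduct.map π π (CoalgebraStruct.comul (R := K) f) = 0 :=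
      Submodule.IsCoideal.map_mkQ_comul_eq_zero (I := I.restrictScalars K) hfI
    have h2 : aeval (c ⊗ₜ[K] 1 + 1 ⊗ₜ[K] c) p = (0 : (A ⧸ I) ⊗[K] (A ⧸ I)) := by
      rw [hΔf, ← aeval_algHom_apply] at h0
      simpa [Algebra.TensorProduct.map_tmul, c] using h0
    have h3 : aeval (algebraMap (A ⧸ I) (AdjoinRoot pC) c + AdjoinRoot.root pC) p = 0 := by
      have := congrArg Φ h2
      rw [← aeval_algHom_apply, map_zero] at this
      simpa [Φ, hg] using this
    rw [← AdjoinRoot.mk_eq_zero]
    have e1 : (AdjoinRoot.mk pC).comp C = AdjoinRoot.of pC := by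
      ext a
      simp
    have e2 : AdjoinRoot.mk pC (X + C c) =
        algebraMap (A ⧸ I) (AdjoinRoot pC) c + AdjoinRoot.root pC := by
      simp [AdjoinRoot.algebraMap_eq, add_comm]
    have h4 : AdjoinRoot.mk pC (taylor c pC) =
        aeval (algebraMap (A ⧸ I) (AdjoinRoot pC) c + AdjoinRoot.root pC) p := by
      rw [taylor_apply, Polynomial.comp, Polynomial.hom_eval₂, e1, e2, aeval_def, e3, ← eval₂_map]
    rw [h4, h3]
  obtain ⟨hp0, hpj⟩ := hadd
  have hfΔ : CoalgebraStruct.comul (R := K) f = f ⊗ₜ[K] 1 + 1 ⊗ₜ[K] f := by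
    rw [hΔf, aeval_add_of_hasse p hp0 hpj]
    congr 1
    · exact aeval_algHom_apply (Algebra.TensorProduct.includeLeft : A →ₐ[K] A ⊗[K] A) x p
    · exact aeval_algHom_apply (Algebra.TensorProduct.includeRight : A →ₐ[K] A ⊗[K] A) x p
  obtain ⟨ψ₀, hψ₀, -⟩ := hU A f
  have hfε : CoalgebraStruct.counit (R := K) f = 0 :=
    Submodule.IsCoideal.counit_eq_zero (I := I.restrictScalars K) hfI
  let ψ : A →ₐc[K] A := BialgHom.ofAlgHom ψ₀
    (by
      apply ga_hext x hU
      simp [hψ₀, hε, hfε])
    (by
      apply ga_hext x hU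
      simp [hψ₀, hΔ, hfΔ])
  refine ⟨ψ, ?_, ?_⟩
  · intro a b hab
    obtain ⟨q₁, rfl⟩ := hbij.2 a
    obtain ⟨q₂, rfl⟩ := hbij.2 b
    have hψq : ∀ q : K[X], ψ₀ (aeval x q) = aeval x (q.comp p) := by
      intro q
      rw [← aeval_algHom_apply, hψ₀, aeval_comp]
    have hab' : ψ₀ (aeval x q₁) = ψ₀ (aeval x q₂) := hab
    rw [hψq, hψq] at hab'
    have h5 := hbij.1 hab'
    have h6 : (q₁ - q₂).comp p = 0 := by rw [sub_comp, h5, sub_self]
    rcases comp_eq_zero_iff.mp h6 with h | ⟨-, h⟩
    · rw [sub_eq_zero.mp h]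
    · exfalso
      rw [h, natDegree_C] at hn
      exact lt_irrefl _ hn
  · have hker : RingHom.ker (Bialgebra.counitAlgHom K A) = Ideal.span {x} := by
      apply le_antisymm
      · intro a ha
        obtain ⟨q, rfl⟩ := hbij.2 a
        have h7 : CoalgebraStruct.counit (R := K) (aeval x q) = q.coeff 0 := by
          have := (aeval_algHom_apply (Bialgebra.counitAlgHom K A) x q).symm
          simpa [hε, coeff_zero_eq_aeval_zero] using this
        have h8 : q.coeff 0 = 0 := by
          rw [← h7]
          exact ha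
        obtain ⟨r, rfl⟩ := X_dvd_iff.mpr h8
        rw [map_mul, aeval_X]
        exact Ideal.mul_mem_right _ _ (Ideal.subset_span rfl)
      · rw [Ideal.span_le]
        intro a ha
        rw [Set.mem_singleton_iff.mp ha]
        exact hε
    rw [hker, Ideal.map_span, Set.image_singleton, hIf]
    congr 2
    exact hψ₀.symm

end Ga

end Groth.Agent.H1.GaGm
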