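import Mathlib

/-!
# helper1: finite subgroup schemes of `𝔾_m`, Hopf-algebra form

`A` a commutative Hopf algebra over a field `K` with a group-like unit `t` such that `A` is the
Laurent polynomial ring on `t` (expressed by the universal property `hU`).  Every Hopf ideal `I` with
`A ⧸ I` finite-dimensional is generated by `t ^ n - 1`, and `t ↦ t ^ n` is an injective bialgebra
endomorphism `ψ` of `A` with `I = ψ(ker ε) A`.
-/

set_option autoImplicit false
universe u

open Polynomial TensorProduct

namespace Groth.Agent.H1.GaGm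

section Gm

variable {K : Type u} [Field K] {A : Type u} [CommRing A] [HopfAlgebra K A]

theorem gm_hext (t : Aˣ)
    (hU : ∀ (R : Type u) [CommRing R] [Algebra K R] (w : Rˣ), ∃! f : A →ₐ[K] R, f (t : A) = (w : R))
    {R : Type u} [CommRing R] [Algebra K R] (f g : A →ₐ[K] R) (h : f (t : A) = g (t : A)) : f = g :=
  (hU R (Units.map (g : A →* R) t)).unique h rfl

theorem gm_struct (t : Aˣ)
    (hU : ∀ (R : Type u) [CommRing R] [Algebra K R] (w : Rˣ), ∃! f : A →ₐ[K] R, f (t : A) = (w : R)) :
    (∀ a : A, ∃ (N : ℕ) (q : K[X]), a * (t : A) ^ N = aeval (t : A) q) ∧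
      Function.Injective (aeval (R := K) (t : A)) := by
  let h : LaurentPolynomial K →ₐ[K] A :=
    { LaurentPolynomial.eval₂ (algebraMap K A) t with
      commutes' := fun r => by
        show LaurentPolynomial.eval₂ (algebraMap K A) t (algebraMap K (LaurentPolynomial K) r) = _
        rw [← LaurentPolynomial.C_eq_algebraMap, LaurentPolynomial.eval₂_C] }
  have hT : ∀ n : ℕ, h (LaurentPolynomial.T n) = (t : A) ^ n := fun n =>
    LaurentPolynomial.eval₂_T_n _ _ n
  have hpoly : ∀ q : K[X], h (Polynomial.toLaurent q) = aeval (t : A) q := fun q => by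
    show LaurentPolynomial.eval₂ (algebraMap K A) t (toLaurent q) = _
    rw [LaurentPolynomial.eval₂_toLaurent]
    rfl
  obtain ⟨g, hg, -⟩ := hU (LaurentPolynomial K) (LaurentPolynomial.isUnit_T 1).unit
  have hg' : g (t : A) = LaurentPolynomial.T 1 := hg
  have hhg : h.comp g = AlgHom.id K A := by
    apply gm_hext t hU
    have := hT 1
    simp only [Nat.cast_one, pow_one] at this
    simp [hg', this]
  have hgh : ∀ q : K[X], g (aeval (t : A) q) = Polynomial.toLaurent q := by
    intro q
    have : (g.comp (aeval (t : A))) = Polynomial.toLaurentAlg := by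
      apply Polynomial.algHom_ext
      simp [hg', Polynomial.toLaurent_X]
    exact DFunLike.congr_fun this q
  constructor
  · intro a
    obtain ⟨N, q, hq⟩ := LaurentPolynomial.exists_T_pow (g a)
    refine ⟨N, q, ?_⟩
    have h1 := congrArg h hq
    rw [hpoly, map_mul, hT] at h1
    rw [h1]
    congr 1
    exact (DFunLike.congr_fun hhg a).symm
  · intro q₁ q₂ hq
    apply Polynomial.toLaurent_injective
    rw [← hgh, ← hgh, hq]

/-- Finite subgroup schemes of `𝔾_m`: the Hopf ideal is generated by `t ^ n - 1`. -/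
theorem gm_main (t : Aˣ)
    (hU : ∀ (R : Type u) [CommRing R] [Algebra K R] (w : Rˣ), ∃! f : A →ₐ[K] R, f (t : A) = (w : R))
    (hΔ : CoalgebraStruct.comul (R := K) (t : A) = (t : A) ⊗ₜ[K] (t : A))
    (I : Ideal A) [I.IsHopfIdeal K] [Module.Finite K (A ⧸ I)] :
    ∃ ψ : A →ₐc[K] A, Function.Injective ψ ∧
      I = Ideal.map (ψ : A →+* A) (RingHom.ker (Bialgebra.counitAlgHom K A)) := by
  classical
  obtain ⟨hF1, hF4⟩ := gm_struct t hU
  have hI1 : (1 : A) ∉ I := fun h => by
    have := Submodule.IsCoideal.counit_eq_zero (I := I.restrictScalars K) h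
    rw [Bialgebra.counit_one] at this
    exact one_ne_zero this
  have hQ : Nontrivial (A ⧸ I) :=
    Ideal.Quotient.nontrivial_iff.mpr (by rwa [Ne, Ideal.eq_top_iff_one])
  have hA : Nontrivial A := ⟨⟨0, 1, fun h => hI1 (h ▸ I.zero_mem)⟩⟩
  have hεt : CoalgebraStruct.counit (R := K) (t : A) = 1 := by
    have h := Coalgebra.rTensor_counit_comul (R := K) (t : A)
    rw [hΔ, LinearMap.rTensor_tmul] at h
    have h3 := congrArg (TensorProduct.lid K A) h
    rw [TensorProduct.lid_tmul, TensorProduct.lid_tmul, one_smul] at h3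
    have h4 : CoalgebraStruct.counit (R := K) (t : A) • (1 : A) = 1 := by
      have := congrArg (fun a => a * ((t⁻¹ : Aˣ) : A)) h3
      simpa [smul_mul_assoc] using this
    have h5 : algebraMap K A (CoalgebraStruct.counit (R := K) (t : A)) = algebraMap K A 1 := by
      rw [Algebra.algebraMap_eq_smul_one, h4, map_one]
    exact (algebraMap K A).injective h5
  have htg : IsGroupLikeElem K (t : A) := ⟨hεt, hΔ⟩
  let π : A →ₐc[K] A ⧸ I := Bialgebra.Quotient.mkBialgHom I
  have hπ : ∀ a : A, π a = Ideal.Quotient.mk I a := fun a => rfl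
  let c : A ⧸ I := π t
  have hcg : IsGroupLikeElem K c := htg.map π
  have hcu : IsUnit c := t.isUnit.map π
  have hc : IsIntegral K c := Algebra.IsIntegral.isIntegral c
  let p := minpoly K c
  have hp : p.Monic := minpoly.monic hc
  have hn : 0 < p.natDegree := minpoly.natDegree_pos hc
  -- Step A
  have hA' : c ^ p.natDegree ∈
      Submodule.span K ((fun j : ℕ => c ^ j) '' {j | j < p.natDegree}) := by
    have h0 : aeval c p = 0 := minpoly.aeval K c
    have h1 := congrArg (aeval c) hp.as_sum
    rw [h0, map_add, map_pow, aeval_X, map_sum] at h1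
    have h2 : c ^ p.natDegree = -∑ i ∈ Finset.range p.natDegree, p.coeff i • c ^ i := by
      rw [eq_neg_iff_add_eq_zero, h1]
      congr 1
      refine Finset.sum_congr rfl fun i _ => ?_
      rw [map_mul, aeval_C, map_pow, aeval_X, Algebra.smul_def]
    rw [h2]
    refine Submodule.neg_mem _ (Submodule.sum_mem _ fun i hi =>
      Submodule.smul_mem _ _ (Submodule.subset_span ⟨i, Finset.mem_range.mp hi, rfl⟩))
  -- Step B
  have hS := linearIndepOn_isGroupLikeElem (R := K) (A := A ⧸ I)
  have hsS : insert (c ^ p.natDegree) ((fun j : ℕ => c ^ j) '' {j | j < p.natDegree}) ⊆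
      {a | IsGroupLikeElem K a} := by
    rintro a (rfl | ⟨j, -, rfl⟩) <;> exact hcg.pow
  have hmem : c ^ p.natDegree ∈ (fun j : ℕ => c ^ j) '' {j | j < p.natDegree} :=
    ((hS.mono ((Set.subset_insert _ _).trans hsS)).mem_span_iff_id.mp hA') (hS.mono hsS)
  obtain ⟨j, hj, hjn⟩ := hmem
  have hj' : j < p.natDegree := hj
  have hjn' : c ^ j = c ^ p.natDegree := hjn
  have hm : c ^ (p.natDegree - j) = 1 := by
    have h1 : c ^ j * c ^ (p.natDegree - j) = c ^ j * 1 := by
      rw [← pow_add, Nat.add_sub_cancel' hj'.le, mul_one, hjn']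
    exact (hcu.pow j).mul_left_cancel h1
  have hdvd : p ∣ X ^ (p.natDegree - j) - C 1 := minpoly.dvd K c (by simp [hm])
  have hj0 : j = 0 := by
    have hne : (X ^ (p.natDegree - j) - C 1 : K[X]) ≠ 0 :=
      (monic_X_pow_sub_C (1 : K) (by omega : p.natDegree - j ≠ 0)).ne_zero
    have := natDegree_le_of_dvd hdvd hne
    rw [natDegree_X_pow_sub_C] at this
    omega
  rw [hj0, Nat.sub_zero] at hdvd hm
  have hpX : X ^ p.natDegree - C 1 = p :=
    eq_of_monic_of_dvd_of_natDegree_le hp (monic_X_pow_sub_C (1 : K) hn.ne') hdvd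
      (by rw [natDegree_X_pow_sub_C])
  -- the generator
  have hfI : (t : A) ^ p.natDegree - 1 ∈ I := by
    rw [← Ideal.Quotient.eq_zero_iff_mem, ← hπ, map_sub, map_pow, map_one]
    show c ^ p.natDegree - 1 = 0
    rw [hm, sub_self]
  have haevp : aeval (t : A) p = (t : A) ^ p.natDegree - 1 := by
    have h1 : aeval (t : A) p = aeval (t : A) (X ^ p.natDegree - C (1 : K)) := congrArg _ hpX.symm
    rw [h1]
    simp
  have htinv : ∀ N : ℕ, (t : A) ^ N * ((t⁻¹ : Aˣ) : A) ^ N = 1 := by
    intro N
    rw [← mul_pow, Units.mul_inv, one_pow]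
  have hIf : I = Ideal.span {(t : A) ^ p.natDegree - 1} := by
    apply le_antisymm
    · intro a ha
      obtain ⟨N, q, hq⟩ := hF1 a
      have hqI : aeval (t : A) q ∈ I := hq ▸ I.mul_mem_right _ ha
      have h1 : aeval c q = 0 := by
        show aeval (π (t : A)) q = 0
        rw [aeval_algHom_apply, hπ]
        exact Ideal.Quotient.eq_zero_iff_mem.mpr hqI
      obtain ⟨r, rfl⟩ := minpoly.dvd K c h1
      have h2 : a = ((t : A) ^ p.natDegree - 1) * (aeval (t : A) r * ((t⁻¹ : Aˣ) : A) ^ N) := by
        have h3 : a * (t : A) ^ N * ((t⁻¹ : Aˣ) : A) ^ N = a := by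
          rw [mul_assoc, htinv, mul_one]
        rw [← h3, hq, map_mul, haevp]
        ring
      rw [h2]
      exact Ideal.mul_mem_right _ _ (Ideal.subset_span rfl)
    · rw [Ideal.span_le]
      intro a ha
      rw [Set.mem_singleton_iff.mp ha]
      exact hfI
  -- ψ
  obtain ⟨ψ₀, hψ₀, -⟩ := hU A (t ^ p.natDegree)
  have hψ₀' : ψ₀ (t : A) = (t : A) ^ p.natDegree := by
    rw [hψ₀, Units.val_pow_eq_pow_val]
  let ψ : A →ₐc[K] A := BialgHom.ofAlgHom ψ₀
    (by
      apply gm_hext t hU
      simp [hψ₀', hεt])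
    (by
      apply gm_hext t hU
      simp [hψ₀', hΔ, Bialgebra.comul_pow, Algebra.TensorProduct.tmul_pow])
  refine ⟨ψ, ?_, ?_⟩
  · show Function.Injective (ψ₀ : A →+* A)
    rw [injective_iff_map_eq_zero]
    intro a ha
    obtain ⟨N, q, hq⟩ := hF1 a
    have h1 : aeval ((t : A) ^ p.natDegree) q = 0 := by
      have := congrArg ψ₀ hq
      rw [map_mul, ← aeval_algHom_apply, hψ₀'] at this
      rw [← this]
      have ha' : ψ₀ a = 0 := ha
      rw [ha', zero_mul]
    have h2 : aeval (t : A) (expand K p.natDegree q) = 0 := by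
      rw [expand_aeval]
      exact h1
    have h3 : expand K p.natDegree q = 0 := hF4 (by rw [h2, map_zero])
    have h4 : q = 0 := expand_injective hn (h3.trans (map_zero _).symm)
    rw [h4, map_zero] at hq
    have h5 : a * (t : A) ^ N * ((t⁻¹ : Aˣ) : A) ^ N = a := by
      rw [mul_assoc, htinv, mul_one]
    rw [← h5, hq, zero_mul]
  · have hker : RingHom.ker (Bialgebra.counitAlgHom K A) = Ideal.span {(t : A) - 1} := by
      apply le_antisymm
      · intro a ha
        obtain ⟨N, q, hq⟩ := hF1 a
        have ha' : CoalgebraStruct.counit (R := K) a = 0 := ha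
        have h7 : q.eval 1 = 0 := by
          have h8 := congrArg (Bialgebra.counitAlgHom K A) hq
          rw [map_mul, ← aeval_algHom_apply] at h8
          simp only [Bialgebra.counitAlgHom_apply, ha', zero_mul, hεt] at h8
          simpa using h8.symm
        obtain ⟨r, rfl⟩ := dvd_iff_isRoot.mpr h7
        have h2 : a = ((t : A) - 1) * (aeval (t : A) r * ((t⁻¹ : Aˣ) : A) ^ N) := by
          have h3 : a * (t : A) ^ N * ((t⁻¹ : Aˣ) : A) ^ N = a := by
            rw [mul_assoc, htinv, mul_one]
          rw [← h3, hq, map_mul]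
          simp only [map_sub, aeval_X, map_one]
          ring
        rw [h2]
        exact Ideal.mul_mem_right _ _ (Ideal.subset_span rfl)
      · rw [Ideal.span_le]
        intro a ha
        rw [Set.mem_singleton_iff.mp ha]
        show CoalgebraStruct.counit (R := K) ((t : A) - 1) = 0
        rw [map_sub, hεt, Bialgebra.counit_one, sub_self]
    rw [hker, Ideal.map_span, Set.image_singleton, hIf]
    congr 2
    show (t : A) ^ p.natDegree - 1 = ψ₀ ((t : A) - 1)
    rw [map_sub, hψ₀', map_one]

end Gm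

end Groth.Agent.H1.GaGm
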