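import Groth.Agent.H93.GaGmLaw
import Groth.Agent.H85.GaGmLaw
import Groth.Agent.H1.NormalQuot.Scheme
import Groth.Agent.H1.GaGm.GaAlg
import Groth.Agent.H1.GaGm.GmAlg

/-!
# helper1: the Hopf algebra of a group scheme isomorphic to `𝔾_a` / `𝔾_m` over a field

For a commutative Hopf algebra `A` over `K` and an isomorphism of group schemes
`F : Spec A ≅ Red.Ga (Spec K)` (resp. `Red.Gm`), the coordinate gives an element `x : A`
(resp. a unit `t`) with the universal property of the polynomial (resp. Laurent polynomial) ring,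
and (using helper93/helper85's classification of group laws) `x` is primitive up to a constant
(resp. `t` is group-like up to a constant).
-/

set_option autoImplicit false
universe u
open CategoryTheory Limits MonoidalCategory CartesianMonoidalCategory MonObj GrpObj AlgebraicGeometry
  Opposite TensorProduct

namespace Groth.Agent.H1.GaGm
open Groth.Agent.H93.GaPts Groth.Agent.H93.GaGmLaw Groth.Agent.H1.NormalQuotSch

section Common
variable {K : Type u} [Field K] {A : Type u} [CommRing A] [HopfAlgebra K A]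
variable {B : Type u} [CommRing B] [Algebra (ULift.{u} ℤ) B]
variable (F : pt K A ⟶ XA K B)

/-- the coordinate ring hom of `F` -/
noncomputable def c0 : B →+* A := co (k := K) (A := B) (R := A) F

lemma co_gOf_comp {R : Type u} [CommRing R] [Algebra K R] (f : A →ₐ[K] R) :
    co (k := K) (A := B) (R := R) (gOf K f ≫ F) = (f : A →+* R).comp (c0 F) :=
  co_nat f F

lemma comp_c0_bijective [IsIso F] (R : Type u) [CommRing R] [Algebra K R] :
    Function.Bijective (fun f : A →ₐ[K] R => (f : A →+* R).comp (c0 F)) := by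
  constructor
  · intro f g h
    have h' : (f : A →+* R).comp (c0 F) = (g : A →+* R).comp (c0 F) := h
    rw [← co_gOf_comp, ← co_gOf_comp] at h'
    have h1 := co_injective h'
    have h2 : gOf K f = gOf K g := (cancel_mono F).mp h1
    have h3 := (Spec.mapMulEquiv (R := K) (S := A) (T := R)).injective h2
    exact WithConv.toConv_injective h3
  · intro χ
    obtain ⟨f', hf'⟩ := (Spec.mapMulEquiv (R := K) (S := A) (T := R)).surjective
      (pt (k := K) χ ≫ inv F)
    refine ⟨f'.ofConv, ?_⟩
    show (f'.ofConv : A →+* R).comp (c0 F) = χ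
    rw [← co_gOf_comp]
    have h1 : gOf K f'.ofConv = pt (k := K) χ ≫ inv F := hf'
    rw [h1, Category.assoc, IsIso.inv_hom_id, Category.comp_id, co_pt]

lemma law [GrpObj (XA K B)] [IsMonHom F] {R : Type u} [CommRing R] [Algebra K R]
    (f₁ f₂ : A →ₐ[K] R) :
    (((WithConv.toConv f₁ * WithConv.toConv f₂).ofConv : A →ₐ[K] R) : A →+* R).comp (c0 F) =
      mulP K R ((f₁ : A →+* R).comp (c0 F)) ((f₂ : A →+* R).comp (c0 F)) := by
  rw [← co_gOf_comp, ← co_gOf_comp F f₁, ← co_gOf_comp F f₂]
  unfold mulP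
  rw [pt_co, pt_co, ← Hom.mul_def]
  have e : gOf K (WithConv.toConv f₁ * WithConv.toConv f₂).ofConv ≫ F =
      (gOf K f₁ ≫ F) * (gOf K f₂ ≫ F) := by
    rw [← MonObj.mul_comp]
    congr 1
    exact map_mul Spec.mapMulEquiv (WithConv.toConv f₁) (WithConv.toConv f₂)
  exact congrArg (co (k := K) (A := B) (R := R)) e

lemma conv_incl (a : A) :
    ((WithConv.toConv (Algebra.TensorProduct.includeLeft : A →ₐ[K] A ⊗[K] A) *
      WithConv.toConv (Algebra.TensorProduct.includeRight : A →ₐ[K] A ⊗[K] A)).ofConv) a =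
      CoalgebraStruct.comul (R := K) a := by
  have h := AlgHom.convMul_apply
    (WithConv.toConv (Algebra.TensorProduct.includeLeft : A →ₐ[K] A ⊗[K] A))
    (WithConv.toConv (Algebra.TensorProduct.includeRight : A →ₐ[K] A ⊗[K] A)) a
  refine h.trans ?_
  simp

end Common

section Ga
variable {K : Type u} [Field K] {A : Type u} [CommRing A] [HopfAlgebra K A]

theorem ga_data [GrpObj (XA K Sym)] (F : pt K A ⟶ XA K Sym) [IsIso F] [IsMonHom F] :
    ∃ (x : A) (c : K),
      (∀ (R : Type u) [CommRing R] [Algebra K R] (r : R), ∃! f : A →ₐ[K] R, f x = r) ∧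
      CoalgebraStruct.comul (R := K) x =
        x ⊗ₜ[K] 1 + 1 ⊗ₜ[K] x - algebraMap K (A ⊗[K] A) c := by
  have ALG : GaAlg K := fun m hnat ε hl hr hassoc hinv =>
    Groth.Agent.H85.GaGmLaw.ga_law_unique m hnat ε hl hr hassoc hinv
  refine ⟨c0 F tt, (oneP K Sym K) tt, ?_, ?_⟩
  · intro R _ _ r
    obtain ⟨f, hf⟩ := (comp_c0_bijective F R).2 (gaHom r)
    have hf' : (f : A →+* R).comp (c0 F) = gaHom r := hf
    refine ⟨f, ?_, ?_⟩
    · show f (c0 F tt) = r
      have h1 := congrArg (fun χ => χ tt) hf'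
      simp only [RingHom.comp_apply, gaHom_tt] at h1
      exact h1
    · intro f₂ hf₂
      apply (comp_c0_bijective F R).1
      show (f₂ : A →+* R).comp (c0 F) = (f : A →+* R).comp (c0 F)
      rw [hf']
      apply sym_hom_ext
      rw [gaHom_tt]
      exact hf₂
  · have h := law F (Algebra.TensorProduct.includeLeft : A →ₐ[K] A ⊗[K] A)
      (Algebra.TensorProduct.includeRight : A →ₐ[K] A ⊗[K] A)
    have h1 := congrArg (fun χ => χ tt) h
    simp only [RingHom.comp_apply] at h1
    rw [mulP_tt_eq ALG] at h1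
    have h2 := conv_incl (K := K) (c0 F tt)
    exact h2.symm.trans h1

end Ga

section Gm
variable {K : Type u} [Field K] {A : Type u} [CommRing A] [HopfAlgebra K A]

theorem gm_data [GrpObj (XA K Lau)] (F : pt K A ⟶ XA K Lau) [IsIso F] [IsMonHom F] :
    ∃ (t : Aˣ) (e : Kˣ),
      (∀ (R : Type u) [CommRing R] [Algebra K R] (w : Rˣ),
        ∃! f : A →ₐ[K] R, f (t : A) = (w : R)) ∧
      CoalgebraStruct.comul (R := K) (t : A) =
        ((t : A) ⊗ₜ[K] (t : A)) * algebraMap K (A ⊗[K] A) ((e⁻¹ : Kˣ) : K) := by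
  have ALG : GmAlg K := fun m hnat ε hl hr =>
    Groth.Agent.H85.GaGmLaw.gm_law_unique m hnat ε hl hr
  refine ⟨evU (c0 F), evU (oneP K Lau K), ?_, ?_⟩
  · intro R _ _ w
    obtain ⟨f, hf⟩ := (comp_c0_bijective F R).2 (gmHom w)
    have hf' : (f : A →+* R).comp (c0 F) = gmHom w := hf
    refine ⟨f, ?_, ?_⟩
    · show f ((evU (c0 F) : Aˣ) : A) = (w : R)
      have h1 := congrArg (fun χ => ((evU χ : Rˣ) : R)) hf'
      simp only [evU_gmHom, evU_comp] at h1
      exact h1
    · intro f₂ hf₂
      apply (comp_c0_bijective F R).1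
      show (f₂ : A →+* R).comp (c0 F) = (f : A →+* R).comp (c0 F)
      rw [hf']
      apply lau_hom_ext
      rw [evU_gmHom, evU_comp]
      exact Units.ext hf₂
  · have h := law F (Algebra.TensorProduct.includeLeft : A →ₐ[K] A ⊗[K] A)
      (Algebra.TensorProduct.includeRight : A →ₐ[K] A ⊗[K] A)
    have h1 := congrArg (fun χ => ((evU χ : (A ⊗[K] A)ˣ) : A ⊗[K] A)) h
    rw [mulP_evU_eq ALG, evU_comp, evU_comp, evU_comp] at h1
    have h2 := conv_incl (K := K) ((evU (c0 F) : Aˣ) : A)
    refine h2.symm.trans (h1.trans ?_)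
    simp only [Units.val_mul, Units.coe_map, MonoidHom.coe_coe, RingHom.coe_coe,
      Algebra.TensorProduct.includeLeft_apply, Algebra.TensorProduct.includeRight_apply,
      Algebra.TensorProduct.tmul_mul_tmul, Units.coe_map_inv]
    rw [_root_.mul_one, _root_.one_mul]

end Gm

end Groth.Agent.H1.GaGm
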