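import Groth.Agent.H1.GaGm.GaAlg
import Groth.Agent.H1.GaGm.GmAlg

/-!
# helper1: `ga_main` / `gm_main` for a coordinate which is primitive / group-like up to a constant
-/

set_option autoImplicit false
universe u

open Polynomial TensorProduct

namespace Groth.Agent.H1.GaGm

variable {K : Type u} [Field K] {A : Type u} [CommRing A] [HopfAlgebra K A]

theorem ga_main' (x : A) (c : K)
    (hU : ∀ (R : Type u) [CommRing R] [Algebra K R] (r : R), ∃! f : A →ₐ[K] R, f x = r)
    (hΔ : CoalgebraStruct.comul (R := K) x =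
      x ⊗ₜ[K] 1 + 1 ⊗ₜ[K] x - algebraMap K (A ⊗[K] A) c)
    (I : Ideal A) [I.IsHopfIdeal K] [Module.Finite K (A ⧸ I)] :
    ∃ ψ : A →ₐc[K] A, Function.Injective ψ ∧
      I = Ideal.map (ψ : A →+* A) (RingHom.ker (Bialgebra.counitAlgHom K A)) := by
  refine ga_main (x - algebraMap K A c) ?_ ?_ I
  · intro R _ _ r
    obtain ⟨f, hf, huniq⟩ := hU R (r + algebraMap K R c)
    have hf' : f x = r + algebraMap K R c := hf
    refine ⟨f, ?_, fun g hg => huniq g ?_⟩
    · show f (x - algebraMap K A c) = r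
      rw [map_sub, hf', AlgHom.commutes, add_sub_cancel_right]
    · have hg' : g (x - algebraMap K A c) = r := hg
      rw [map_sub, AlgHom.commutes, sub_eq_iff_eq_add] at hg'
      exact hg'
  · have h1 : algebraMap K A c ⊗ₜ[K] (1 : A) = algebraMap K (A ⊗[K] A) c :=
      (Algebra.TensorProduct.algebraMap_apply c).symm
    have h2 : (1 : A) ⊗ₜ[K] algebraMap K A c = algebraMap K (A ⊗[K] A) c := by
      rw [← h1, Algebra.algebraMap_eq_smul_one, TensorProduct.tmul_smul, TensorProduct.smul_tmul']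
    rw [map_sub, hΔ, Bialgebra.comul_algebraMap, TensorProduct.sub_tmul, TensorProduct.tmul_sub,
      h1, h2]
    abel

theorem gm_main' (t : Aˣ) (e : Kˣ)
    (hU : ∀ (R : Type u) [CommRing R] [Algebra K R] (w : Rˣ), ∃! f : A →ₐ[K] R, f (t : A) = (w : R))
    (hΔ : CoalgebraStruct.comul (R := K) (t : A) =
      ((t : A) ⊗ₜ[K] (t : A)) * algebraMap K (A ⊗[K] A) ((e⁻¹ : Kˣ) : K))
    (I : Ideal A) [I.IsHopfIdeal K] [Module.Finite K (A ⧸ I)] :
    ∃ ψ : A →ₐc[K] A, Function.Injective ψ ∧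
      I = Ideal.map (ψ : A →+* A) (RingHom.ker (Bialgebra.counitAlgHom K A)) := by
  have hA : (((Units.map (algebraMap K A : K →* A) e)⁻¹ : Aˣ) : A) =
      algebraMap K A ((e⁻¹ : Kˣ) : K) := by
    rw [← map_inv]
    rfl
  refine gm_main (t * (Units.map (algebraMap K A : K →* A) e)⁻¹) ?_ ?_ I
  · intro R _ _ w
    obtain ⟨f, hf, huniq⟩ := hU R (w * Units.map (algebraMap K R : K →* R) e)
    have hf' : f (t : A) = (w : R) * algebraMap K R (e : K) := hf
    have key : ∀ g : A →ₐ[K] R, g ((t * (Units.map (algebraMap K A : K →* A) e)⁻¹ : Aˣ) : A) =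
        g (t : A) * algebraMap K R ((e⁻¹ : Kˣ) : K) := by
      intro g
      rw [Units.val_mul, map_mul, hA, AlgHom.commutes]
    have hee : algebraMap K R (e : K) * algebraMap K R ((e⁻¹ : Kˣ) : K) = 1 := by
      rw [← map_mul, Units.mul_inv, map_one]
    refine ⟨f, ?_, ?_⟩
    · show f ((t * (Units.map (algebraMap K A : K →* A) e)⁻¹ : Aˣ) : A) = (w : R)
      rw [key, hf', mul_assoc, hee, mul_one]
    · intro g hg
      apply huniq
      have hg' : g ((t * (Units.map (algebraMap K A : K →* A) e)⁻¹ : Aˣ) : A) = (w : R) := hg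
      rw [key] at hg'
      show g (t : A) = (w : R) * algebraMap K R (e : K)
      rw [← hg', mul_assoc, mul_comm (algebraMap K R ((e⁻¹ : Kˣ) : K)), hee, mul_one]
  · have h1 : algebraMap K A ((e⁻¹ : Kˣ) : K) ⊗ₜ[K] algebraMap K A ((e⁻¹ : Kˣ) : K) =
        algebraMap K (A ⊗[K] A) ((e⁻¹ : Kˣ) : K) * algebraMap K (A ⊗[K] A) ((e⁻¹ : Kˣ) : K) := by
      rw [Algebra.TensorProduct.algebraMap_apply, Algebra.TensorProduct.tmul_mul_tmul, mul_one,
        Algebra.algebraMap_eq_smul_one, TensorProduct.tmul_smul, TensorProduct.smul_tmul']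
      congr 1
      rw [smul_mul_assoc, one_mul]
    rw [Units.val_mul, Bialgebra.comul_mul, hΔ, hA, Bialgebra.comul_algebraMap,
      ← Algebra.TensorProduct.tmul_mul_tmul, h1, mul_assoc]

end Groth.Agent.H1.GaGm
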