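import Groth.Agent.H1.GaGm.Ident
import Groth.Agent.H1.GaGm.Norm

/-!
# helper1: S15180 — the quotient of `𝔾_a` / `𝔾_m` by a finite subgroup scheme is `𝔾_a` / `𝔾_m`
-/

set_option autoImplicit false
set_option linter.style.haveILetI false
universe u
open CategoryTheory Limits MonoidalCategory CartesianMonoidalCategory MonObj GrpObj AlgebraicGeometry
  Opposite TensorProduct

namespace Groth.Agent.H1.GaGm
open Groth.Agent.H93.GaPts Groth.Agent.H93.GaGmLaw Groth.Agent.H1.NormalQuotSch

section Pushout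
variable (K : Type u) [Field K]

/-- `A ⊗_{A,θ} K = A / θ(A⁺)A` as a pushout square of commutative rings -/
theorem isPushout_aug' (A C : Type u) [CommRing A] [HopfAlgebra K A] [CommRing C] [Algebra K C]
    (ψH : A →ₐ[K] C) (hψ : Function.Surjective ψH) (θ : A →ₐ[K] A)
    (hker : RingHom.ker (ψH : A →+* C) =
      Ideal.map (θ : A →+* A) (RingHom.ker (Bialgebra.counitAlgHom K A))) :
    IsPushout (CommRingCat.ofHom (θ : A →+* A))
      (CommRingCat.ofHom ((Bialgebra.counitAlgHom K A : A →ₐ[K] K) : A →+* K))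
      (CommRingCat.ofHom (ψH : A →+* C)) (CommRingCat.ofHom (algebraMap K C)) := by
  have hψ' : Function.Surjective (ψH : A →+* C) := hψ
  have hcomm : ∀ a : A, ψH (θ a) = algebraMap K C (Coalgebra.counit (R := K) a) := by
    intro a
    have ha : a - algebraMap K A (Coalgebra.counit (R := K) a) ∈
        RingHom.ker (Bialgebra.counitAlgHom K A) := by
      rw [RingHom.mem_ker, map_sub, AlgHom.commutes]
      simp
    have hb : (θ : A →+* A) (a - algebraMap K A (Coalgebra.counit (R := K) a)) ∈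
        RingHom.ker (ψH : A →+* C) := by
      rw [hker]
      exact Ideal.mem_map_of_mem _ ha
    have h1 : ψH (θ (a - algebraMap K A (Coalgebra.counit (R := K) a))) = 0 := hb
    rw [map_sub, map_sub, sub_eq_zero, AlgHom.commutes, AlgHom.commutes] at h1
    exact h1
  have hw : CommRingCat.ofHom (θ : A →+* A) ≫ CommRingCat.ofHom (ψH : A →+* C) =
      CommRingCat.ofHom ((Bialgebra.counitAlgHom K A : A →ₐ[K] K) : A →+* K) ≫
        CommRingCat.ofHom (algebraMap K C) := by
    ext a
    exact hcomm a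
  have hle : ∀ s : PushoutCocone (CommRingCat.ofHom (θ : A →+* A))
      (CommRingCat.ofHom ((Bialgebra.counitAlgHom K A : A →ₐ[K] K) : A →+* K)),
      RingHom.ker (ψH : A →+* C) ≤ RingHom.ker s.inl.hom := by
    intro s
    rw [hker, Ideal.map_le_iff_le_comap]
    intro a ha
    have h1 := congrArg (fun t => t.hom a) s.condition
    simp only [CommRingCat.hom_comp, CommRingCat.hom_ofHom, RingHom.comp_apply] at h1
    have ha' : (Bialgebra.counitAlgHom K A) a = 0 := ha
    show s.inl.hom (θ a) = 0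
    have h2 : s.inl.hom (θ a) = s.inr.hom ((Bialgebra.counitAlgHom K A) a) := h1
    rw [h2, ha', map_zero]
  refine IsPushout.of_isColimit (PushoutCocone.IsColimit.mk hw
    (fun s => CommRingCat.ofHom ((ψH : A →+* C).liftOfSurjective hψ' ⟨s.inl.hom, hle s⟩))
    ?_ ?_ ?_)
  · intro s
    ext x
    exact RingHom.liftOfSurjective_comp_apply (ψH : A →+* C) hψ' ⟨s.inl.hom, hle s⟩ x
  · intro s
    ext c
    show (ψH : A →+* C).liftOfSurjective hψ' ⟨s.inl.hom, hle s⟩ (algebraMap K C c) = s.inr.hom c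
    have e1 : algebraMap K C c = (ψH : A →+* C) ((θ : A →+* A) (algebraMap K A c)) := by
      show algebraMap K C c = ψH (θ (algebraMap K A c))
      rw [AlgHom.commutes, AlgHom.commutes]
    rw [e1, RingHom.liftOfSurjective_comp_apply]
    have h1 := congrArg (fun t => t.hom (algebraMap K A c)) s.condition
    simp only [CommRingCat.hom_comp, CommRingCat.hom_ofHom, RingHom.comp_apply] at h1
    have h2 : s.inl.hom (θ (algebraMap K A c)) =
        s.inr.hom ((Bialgebra.counitAlgHom K A) (algebraMap K A c)) := h1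
    have h3 : (Bialgebra.counitAlgHom K A) (algebraMap K A c) = c := by
      rw [AlgHom.commutes]
      rfl
    rw [h3] at h2
    exact h2
  · intro s m hm1 _
    ext y
    obtain ⟨x, rfl⟩ := hψ y
    have h1 := congrArg (fun t => t.hom x) hm1
    simp only [CommRingCat.hom_comp, CommRingCat.hom_ofHom, RingHom.comp_apply] at h1
    show m.hom (ψH x) = (ψH : A →+* C).liftOfSurjective hψ' ⟨s.inl.hom, hle s⟩ ((ψH : A →+* C) x)
    rw [RingHom.liftOfSurjective_comp_apply]
    exact h1

end Pushout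

section Assembly
variable (K : Type u) [Field K]

theorem assembly_aux (A C : Type u) [CommRing A] [HopfAlgebra K A] [CommRing C] [HopfAlgebra K C]
    (ψH : A →ₐc[K] C)
    (G H : Over (Spec (CommRingCat.of K))) [GrpObj G] [GrpObj H]
    (i : H ⟶ G) [IsClosedImmersion i.left] [IsFinite H.hom]
    (fG : pt K A ⟶ G) [IsIso fG] [IsMonHom fG] (fN : pt K C ⟶ H) [IsIso fN]
    (hcomm : fN ≫ i = gOf K (ψH : A →ₐ[K] C) ≫ fG)
    (hA : ∀ (I : Ideal A) [I.IsHopfIdeal K] [Module.Finite K (A ⧸ I)],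
      ∃ ψ : A →ₐc[K] A, Function.Injective ψ ∧
        I = Ideal.map (ψ : A →+* A) (RingHom.ker (Bialgebra.counitAlgHom K A))) :
    ∃ φ : G ⟶ G, IsMonHom φ ∧ AlgGrp.IsKernel i φ ∧ Flat φ.left ∧ Surjective φ.left := by
  haveI : IsIso fG.left := (Over.forget _).map_isIso fG
  haveI : IsIso fN.left := (Over.forget _).map_isIso fN
  haveI : IsIso (asIso fG).inv.left := (Over.forget _).map_isIso (asIso fG).inv
  -- `ψH` is surjective
  have hψs : Function.Surjective ψH := by
    have h0 : IsClosedImmersion (fN.left ≫ i.left ≫ (asIso fG).inv.left) := inferInstance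
    have h2 : fN ≫ i ≫ (asIso fG).inv = gOf K (ψH : A →ₐ[K] C) := by
      rw [← Category.assoc, hcomm, Category.assoc]
      show gOf K (ψH : A →ₐ[K] C) ≫ fG ≫ inv fG = _
      rw [IsIso.hom_inv_id, Category.comp_id]
    have h1 : fN.left ≫ i.left ≫ (asIso fG).inv.left =
        Spec.map (CommRingCat.ofHom ((ψH : A →ₐ[K] C) : A →+* C)) :=
      congrArg (fun t => t.left) h2
    rw [h1] at h0
    exact surjective_of_isClosedImmersion_specMap _ h0
  -- `C` is finite over `K`
  haveI hCfin : Module.Finite K C := by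
    have h0 : IsFinite (fN.left ≫ H.hom) := inferInstance
    rw [Over.w fN] at h0
    have h1 : IsFinite (Spec.map (CommRingCat.ofHom (algebraMap K C))) := h0
    rw [IsFinite.SpecMap_iff, CommRingCat.hom_ofHom] at h1
    exact RingHom.finite_algebraMap.mp h1
  haveI hHI : (RingHom.ker (ψH : A →+* C)).IsHopfIdeal K := Groth.Agent.S16476.isHopfIdeal_ker ψH
  haveI hQfin : Module.Finite K (A ⧸ RingHom.ker (ψH : A →+* C)) := by
    exact Module.Finite.equiv
      (Ideal.quotientKerAlgEquivOfSurjective (f := (ψH : A →ₐ[K] C)) hψs).symm.toLinearEquiv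
  obtain ⟨ψ, hinj, hIψ⟩ := hA (RingHom.ker (ψH : A →+* C))
  -- faithful flatness
  have hff : Module.FaithfullyFlat ↥((ψ : A →ₐ[K] A).range) A :=
    Groth.Agent.H83.Tk.hopfSub_faithfullyFlat K A _ (Groth.Agent.H83.Tk.range_comul ψ)
      (Groth.Agent.H83.Tk.range_antipode ψ)
  have hFF : ((ψ : A →ₐ[K] A) : A →+* A).FaithfullyFlat := by
    have h1 : ((ψ : A →ₐ[K] A) : A →+* A) =
        (algebraMap ↥((ψ : A →ₐ[K] A).range) A).comp
          (((ψ : A →ₐ[K] A).rangeRestrict : A →ₐ[K] ↥((ψ : A →ₐ[K] A).range)) :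
            A →+* ↥((ψ : A →ₐ[K] A).range)) := by
      ext a
      rfl
    rw [h1]
    refine RingHom.FaithfullyFlat.stableUnderComposition _ _
      (RingHom.FaithfullyFlat.of_bijective ⟨?_, ?_⟩)
      (RingHom.faithfullyFlat_algebraMap_iff.mpr hff)
    · intro a b hab
      apply hinj
      exact congrArg Subtype.val hab
    · exact (ψ : A →ₐ[K] A).rangeRestrict_surjective
  have hSpec : Flat (Spec.map (CommRingCat.ofHom ((ψ : A →ₐ[K] A) : A →+* A))) ∧
      Surjective (Spec.map (CommRingCat.ofHom ((ψ : A →ₐ[K] A) : A →+* A))) := by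
    rw [flat_and_surjective_SpecMap_iff, CommRingCat.hom_ofHom]
    exact hFF
  haveI : IsMonHom (gOf K (ψ : A →ₐ[K] A)) := isMonHom_gOf K ψ
  haveI hF1 : Flat (gOf K (ψ : A →ₐ[K] A)).left := hSpec.1
  haveI hF2 : Surjective (gOf K (ψ : A →ₐ[K] A)).left := hSpec.2
  refine ⟨(asIso fG).inv ≫ gOf K (ψ : A →ₐ[K] A) ≫ fG, inferInstance, ?_, ?_, ?_⟩
  · -- the kernel square
    have hpo := isPushout_aug' K A C (ψH : A →ₐ[K] C) hψs (ψ : A →ₐ[K] A) hIψ
    have hpb := isPullback_SpecMap_of_isPushout _ _ _ _ hpo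
    have hsq : IsPullback i.left H.hom
        ((asIso fG).inv.left ≫
          Spec.map (CommRingCat.ofHom ((ψ : A →ₐ[K] A) : A →+* A)) ≫ fG.left)
        (η[G]).left := by
      let e₁ : (pt K C).left ≅ H.left := asIso fN.left
      let e₂ : (pt K A).left ≅ G.left := asIso fG.left
      have c3 : fG.left ≫ (asIso fG).inv.left = 𝟙 _ := by
        show (fG ≫ inv fG).left = _
        rw [IsIso.hom_inv_id]
        rfl
      refine hpb.of_iso e₁ e₂ (Iso.refl _) e₂ ?_ ?_ ?_ ?_
      · exact (congrArg (fun t => t.left) hcomm).symm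
      · exact (Category.comp_id _).trans (Over.w fN).symm
      · show Spec.map _ ≫ fG.left = fG.left ≫ (asIso fG).inv.left ≫ Spec.map _ ≫ fG.left
        rw [← Category.assoc fG.left, c3, Category.id_comp]
        rfl
      · have h1 : η[pt K A] ≫ fG = η[G] := IsMonHom.one_hom fG
        have h2 : (η[pt K A]).left ≫ fG.left = (η[G]).left := congrArg (fun t => t.left) h1
        refine Eq.trans ?_ (Category.id_comp _).symm
        exact h2
    have hw : i ≫ ((asIso fG).inv ≫ gOf K (ψ : A →ₐ[K] A) ≫ fG) = toUnit H ≫ η[G] := by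
      apply Over.OverMorphism.ext
      have h1 : (toUnit H).left = H.hom := by
        simp
      show i.left ≫ (asIso fG).inv.left ≫ (gOf K (ψ : A →ₐ[K] A)).left ≫ fG.left =
        (toUnit H).left ≫ (η[G]).left
      rw [h1]
      exact hsq.w
    unfold AlgGrp.IsKernel
    refine IsPullback.of_map (Over.forget _) hw ?_
    have h1 : (toUnit H).left = H.hom := by
      simp
    show IsPullback i.left (toUnit H).left _ _
    rw [h1]
    exact hsq
  · show Flat ((asIso fG).inv.left ≫ (gOf K (ψ : A →ₐ[K] A)).left ≫ fG.left)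
    infer_instance
  · show Surjective ((asIso fG).inv.left ≫ (gOf K (ψ : A →ₐ[K] A)).left ≫ fG.left)
    infer_instance

end Assembly

section Main
variable (K : Type u) [Field K]

/-- S15180 -/
theorem main (G H : Over (Spec (CommRingCat.of K))) [GrpObj G] [GrpObj H]
    (hG : Nonempty (Grp.mk G ≅ Grp.mk (Red.Ga (Spec (CommRingCat.of K)))) ∨
      Nonempty (Grp.mk G ≅ Grp.mk (Red.Gm (Spec (CommRingCat.of K)))))
    (i : H ⟶ G) [IsMonHom i] [Mono i] [IsFinite H.hom] :
    ∃ φ : G ⟶ G, IsMonHom φ ∧ AlgGrp.IsKernel i φ ∧ Flat φ.left ∧ Surjective φ.left := by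
  haveI hGaff : IsAffine G.left := by
    rcases hG with ⟨⟨e⟩⟩ | ⟨⟨e⟩⟩
    · haveI : IsAffine (Red.Ga (Spec (CommRingCat.of K))).left :=
        isAffine_XA_left (k := K) (A := Sym)
      haveI : IsIso e.hom.hom.hom := (inferInstance : IsIso ((Grp.forget _).map e.hom))
      haveI : IsIso e.hom.hom.hom.left := (Over.forget _).map_isIso e.hom.hom.hom
      exact IsAffine.of_isIso e.hom.hom.hom.left
    · haveI : IsAffine (Red.Gm (Spec (CommRingCat.of K))).left :=
        isAffine_XA_left (k := K) (A := Lau)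
      haveI : IsIso e.hom.hom.hom := (inferInstance : IsIso ((Grp.forget _).map e.hom))
      haveI : IsIso e.hom.hom.hom.left := (Over.forget _).map_isIso e.hom.hom.hom
      exact IsAffine.of_isIso e.hom.hom.hom.left
  haveI : IsAffine H.left := isAffine_of_isAffineHom H.hom
  haveI : IsFinite i.left := by
    haveI : IsFinite (i.left ≫ G.hom) := by
      rw [Over.w i]
      infer_instance
    exact IsFinite.of_comp i.left G.hom
  haveI : IsClosedImmersion i.left :=
    (IsClosedImmersion.iff_isFinite_and_mono i.left).mpr ⟨inferInstance, inferInstance⟩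
  obtain ⟨YG, ⟨eG⟩⟩ : (hopfSpec (CommRingCat.of K)).essImage (Grp.mk G) :=
    essImage_hopfSpec.mpr ‹_›
  obtain ⟨YN, ⟨eN⟩⟩ : (hopfSpec (CommRingCat.of K)).essImage (Grp.mk H) :=
    essImage_hopfSpec.mpr ‹_›
  let ψ' := hopfSpec.fullyFaithful.preimage
    (eN.hom ≫ (Grp.homMk i : Grp.mk H ⟶ Grp.mk G) ≫ eG.inv)
  have hψ' : (hopfSpec (CommRingCat.of K)).map ψ' = eN.hom ≫ Grp.homMk i ≫ eG.inv :=
    hopfSpec.fullyFaithful.map_preimage _
  let ψ : ↑(unop YG) →ₐc[K] ↑(unop YN) := ψ'.unop.hom'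
  let fG : pt K ↑(unop YG) ⟶ G := eG.hom.hom.hom
  let fN : pt K ↑(unop YN) ⟶ H := eN.hom.hom.hom
  haveI : IsIso fG := (inferInstance : IsIso ((Grp.forget _).map eG.hom))
  haveI : IsMonHom fG := (inferInstance : IsMonHom eG.hom.hom.hom)
  haveI : IsIso fN := (inferInstance : IsIso ((Grp.forget _).map eN.hom))
  have hcomm : fN ≫ i = gOf K (ψ : ↑(unop YG) →ₐ[K] ↑(unop YN)) ≫ fG := by
    have h1 : (hopfSpec (CommRingCat.of K)).map ψ' ≫ eG.hom = eN.hom ≫ Grp.homMk i := by
      rw [hψ', Category.assoc, Category.assoc, Iso.inv_hom_id, Category.comp_id]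
    have h2 := congrArg (fun t => t.hom.hom) h1
    have h3 : ((hopfSpec (CommRingCat.of K)).map ψ').hom.hom =
        gOf K (ψ : ↑(unop YG) →ₐ[K] ↑(unop YN)) := by
      apply Over.OverMorphism.ext
      rfl
    have h4 : ((hopfSpec (CommRingCat.of K)).map ψ' ≫ eG.hom).hom.hom =
        ((hopfSpec (CommRingCat.of K)).map ψ').hom.hom ≫ fG := rfl
    have h5 : (eN.hom ≫ (Grp.homMk i : Grp.mk H ⟶ Grp.mk G)).hom.hom = fN ≫ i := rfl
    exact h5.symm.trans (h2.symm.trans (h4.trans (congrArg (fun t => t ≫ fG) h3)))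
  have hA : ∀ (I : Ideal ↑(unop YG)) [I.IsHopfIdeal K] [Module.Finite K (↑(unop YG) ⧸ I)],
      ∃ ψ₁ : ↑(unop YG) →ₐc[K] ↑(unop YG), Function.Injective ψ₁ ∧
        I = Ideal.map (ψ₁ : ↑(unop YG) →+* ↑(unop YG))
          (RingHom.ker (Bialgebra.counitAlgHom K ↑(unop YG))) := by
    rcases hG with ⟨⟨e⟩⟩ | ⟨⟨e⟩⟩
    · let F : pt K ↑(unop YG) ⟶ XA K Sym := (eG.hom ≫ e.hom).hom.hom
      haveI : IsIso F := (inferInstance : IsIso ((Grp.forget _).map (eG.hom ≫ e.hom)))
      haveI : IsMonHom F := (inferInstance : IsMonHom (eG.hom ≫ e.hom).hom.hom)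
      obtain ⟨x, c, hU, hΔ⟩ := ga_data F
      intro I _ _
      exact ga_main' x c hU hΔ I
    · let F : pt K ↑(unop YG) ⟶ XA K Lau := (eG.hom ≫ e.hom).hom.hom
      haveI : IsIso F := (inferInstance : IsIso ((Grp.forget _).map (eG.hom ≫ e.hom)))
      haveI : IsMonHom F := (inferInstance : IsMonHom (eG.hom ≫ e.hom).hom.hom)
      obtain ⟨t, e', hU, hΔ⟩ := gm_data F
      intro I _ _
      exact gm_main' t e' hU hΔ I
  exact assembly_aux K ↑(unop YG) ↑(unop YN) ψ G H i fG fN hcomm hA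

end Main

end Groth.Agent.H1.GaGm
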